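import Cfsg.Agent.H488.PQ.Tools
import Cfsg.Agent.H894.PQ.Tools
import Cfsg.Agent.CoThreeStd.MTwelveCent
import Cfsg.Agent.H715.Fpr.MathData
import Cfsg.Agent.H651.Two.Mathieu
import Cfsg.Agent.H600.EightSeven

/-!
# S4612: the row of the Mathieu group `M₁₂` (helper642)

* degree `55`; the centralizers of the Sylow 2- and 3-subgroups are `p`-groups;
* `(2,3)`: the involution `y` with `C(y) = ⟨y⟩ × S₅`.
-/

set_option autoImplicit false

open Cfsg Equiv

namespace Cfsg.Agent.H642.PQ.MTwelve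

open Cfsg.Agent.H317.PQ Cfsg.Agent.H709.PB Cfsg.Agent.H894.PQ Cfsg.Agent.H358.A3 Cfsg.Agent.H488.PQ
open Cfsg.Agent.CoThreeStd.MTwelve (H card_H y y_sq y_ne_one y_comm cent_y w w_injective inv_class card_cent_y card_cent_v)

universe u

/-! ### `A₅` -/

set_option maxRecDepth 100000 in
theorem comm53 : ∀ c : Perm (Fin 5), c * (c[0, 1, 2] : Perm (Fin 5)) = c[0, 1, 2] * c →
    c ^ 3 = 1 ∨ Perm.sign c = -1 := by
  decide +kernel

theorem sign53 : (c[0, 1, 2] : Perm (Fin 5)) ∈ alternatingGroup (Fin 5) := by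
  rw [Perm.mem_alternatingGroup]; decide

theorem card_a5 : Nat.card (alternatingGroup (Fin 5)) = 60 := by
  have h := nat_card_alternatingGroup (α := Fin 5)
  rw [h, Nat.card_eq_fintype_card, Fintype.card_fin]
  decide

/-- `PQ 2 3 A₅` fails -/
theorem a5_kill : ¬ PQ 2 3 (alternatingGroup (Fin 5)) := by
  obtain ⟨χ, hχ⟩ := Cfsg.Agent.H600.EightAlt.mem_gen (n := 3) (β := ![0, 2, 6]) (d := 4) (by decide) (by decide)
    (by decide +kernel) (by decide +kernel)
  have hχ' : charDegree (χ : alternatingGroup (Fin 5) → ℂ) = 4 := hχ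
  have h1 : IsPGroup 3 (Subgroup.zpowers (⟨_, sign53⟩ : alternatingGroup (Fin 5))) := by
    refine IsPGroup.of_card (n := 1) ?_
    rw [Nat.card_zpowers, pow_one, Subgroup.orderOf_mk]
    exact orderOf_eq_prime (by decide +kernel) (by decide +kernel)
  have h2 : IsPGroup 3 (Subgroup.centralizer
      ((Subgroup.zpowers (⟨_, sign53⟩ : alternatingGroup (Fin 5)) : Subgroup (alternatingGroup (Fin 5))) :
        Set (alternatingGroup (Fin 5)))) := by
    intro c
    refine ⟨1, Subtype.ext ?_⟩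
    rw [pow_one]
    have h3 := Subgroup.mem_centralizer_iff.1 c.2 _ (Subgroup.mem_zpowers (⟨_, sign53⟩ : alternatingGroup (Fin 5)))
    have h4 := congrArg Subtype.val h3
    apply Subtype.ext
    rcases comm53 ((c : alternatingGroup (Fin 5)) : Perm (Fin 5)) h4.symm with h5 | h5
    · exact h5
    · exfalso
      have h6 := Perm.mem_alternatingGroup.1 (c : alternatingGroup (Fin 5)).2
      rw [h6] at h5
      exact absurd h5 (by decide)
  exact H488.PQ.not_PQ Nat.prime_two Nat.prime_three h1 h2 (χ := χ) (b := 2) (by rw [hχ']; norm_num) two_ne_zero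
    (by rw [hχ']; norm_num) (by rw [card_a5]; norm_num)

/-! ### the group -/

theorem pm_sub : ¬ PQ 2 3 H := by
  intro h
  let A : Subgroup H := (alternatingGroup (Fin 5)).map w
  have hy : orderOf y = 2 := orderOf_eq_prime (by rw [pow_two]; exact y_sq) y_ne_one
  have h1 : PQ 2 3 A := by
    refine pq_sub Nat.prime_two Nat.prime_three (by norm_num) h (x := y) ⟨1, by rw [hy, pow_one]⟩ ?_ ?_
    · rintro l ⟨σ, _, rfl⟩
      exact (y_comm σ).symm
    · rintro c hc l ⟨σ, hσ, rfl⟩
      obtain ⟨τ, rfl | rfl⟩ := cent_y c hc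
      · refine ⟨τ * σ * τ⁻¹, ?_, by rw [map_mul, map_mul, map_inv]⟩
        exact (inferInstance : (alternatingGroup (Fin 5)).Normal).conj_mem _ hσ τ
      · refine ⟨τ * σ * τ⁻¹, ?_, ?_⟩
        · exact (inferInstance : (alternatingGroup (Fin 5)).Normal).conj_mem _ hσ τ
        · have h2 := y_comm (τ * σ * τ⁻¹)
          have h3 : w (τ * σ * τ⁻¹) = w τ * w σ * (w τ)⁻¹ := by rw [map_mul, map_mul, map_inv]
          calc w (τ * σ * τ⁻¹) = w (τ * σ * τ⁻¹) * y * y⁻¹ := by group
            _ = y * w (τ * σ * τ⁻¹) * y⁻¹ := by rw [h2]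
            _ = y * (w τ * w σ * (w τ)⁻¹) * y⁻¹ := by rw [h3]
            _ = y * w τ * w σ * (y * w τ)⁻¹ := by group
  exact a5_kill (PQ.of_equiv ((alternatingGroup (Fin 5)).equivMapOfInjective w w_injective).symm h1)

theorem fin_H : Finite H := Nat.finite_of_card_ne_zero (by rw [card_H]; norm_num)

theorem card_cent_equiv {G : Type*} [Group G] (e : G ≃* G) (x : G) :
    Nat.card (Subgroup.centralizer ({e x} : Set G)) = Nat.card (Subgroup.centralizer ({x} : Set G)) := by
  refine (Nat.card_congr (Equiv.subtypeEquiv e.toEquiv fun a => ?_)).symm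
  change a ∈ Subgroup.centralizer ({x} : Set G) ↔ e a ∈ Subgroup.centralizer ({e x} : Set G)
  rw [Subgroup.mem_centralizer_singleton_iff, Subgroup.mem_centralizer_singleton_iff, ← map_mul, ← map_mul,
    e.injective.eq_iff]

theorem card_cent_inv {g : H} (hg : orderOf g = 2) :
    Nat.card (Subgroup.centralizer ({g} : Set H)) = 240 ∨ Nat.card (Subgroup.centralizer ({g} : Set H)) = 192 := by
  have h1 : g ≠ 1 := by
    rintro rfl
    rw [orderOf_one] at hg
    exact absurd hg (by decide)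
  have h2 : g * g = 1 := by rw [← pow_two, ← hg, pow_orderOf_eq_one]
  rcases inv_class g h1 h2 with ⟨m, hm⟩ | ⟨m, hm⟩
  · left
    have h3 : MulAut.conj m⁻¹ y = g := by rw [MulAut.conj_apply, inv_inv, hm]
    rw [← h3, card_cent_equiv, card_cent_y]
  · right
    have h3 : MulAut.conj m⁻¹ (Cfsg.Agent.CoThreeStd.MTwelve.p * Cfsg.Agent.CoThreeStd.MTwelve.r) = g := by
      rw [MulAut.conj_apply, inv_inv, hm]
    rw [← h3, card_cent_equiv, card_cent_v]

theorem comm_sq : ∀ σ : Perm (Fin 5), swap 0 1 * σ = σ * swap 0 1 → swap 2 3 * σ = σ * swap 2 3 → σ * σ = 1 := by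
  decide +kernel

theorem nb2 : NB 2 1 H := by
  have : Fact (Nat.Prime 2) := ⟨Nat.prime_two⟩
  have := fin_H
  let S : Set H := {y, w (swap 0 1), w (swap 2 3)}
  have hy : y ∈ S := Or.inl rfl
  have hp : w (swap 0 1) ∈ S := Or.inr (Or.inl rfl)
  have hr : w (swap 2 3) ∈ S := Or.inr (Or.inr rfl)
  have hpr : w (swap 0 1) * w (swap 2 3) = w (swap 2 3) * w (swap 0 1) := by
    rw [← map_mul, ← map_mul]
    congr 1
    decide +kernel
  have hc : ∀ a ∈ S, ∀ b ∈ S, a * b = b * a := by
    rintro a (rfl | rfl | rfl) b (rfl | rfl | rfl)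
    · rfl
    · exact y_comm _
    · exact y_comm _
    · exact (y_comm _).symm
    · rfl
    · exact hpr
    · exact (y_comm _).symm
    · exact hpr.symm
    · rfl
  have key : ∀ c : H, (∀ s ∈ S, s * c = c * s) → c ^ 2 = 1 := by
    intro c h
    have h1 := h y hy
    have h2 := h _ hp
    have h3 := h _ hr
    have hyy : y ^ 2 = 1 := by rw [pow_two, y_sq]
    obtain ⟨σ, rfl | rfl⟩ := cent_y c h1.symm
    · rw [← map_mul, ← map_mul, w_injective.eq_iff] at h2 h3
      rw [pow_two, ← map_mul, comm_sq σ h2 h3, map_one]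
    · have e : ∀ τ : Perm (Fin 5), w τ * (y * w σ) = y * w σ * w τ → τ * σ = σ * τ := by
        intro τ ht
        rw [← mul_assoc, ← y_comm, mul_assoc, mul_assoc, mul_right_inj, ← map_mul, ← map_mul,
          w_injective.eq_iff] at ht
        exact ht
      rw [Commute.mul_pow (show Commute y (w σ) from y_comm σ), hyy, one_mul, pow_two, ← map_mul, comm_sq σ (e _ h2) (e _ h3), map_one]
  have h1 : IsPGroup 2 (Subgroup.centralizer ((Subgroup.closure S : Subgroup H) : Set H)) := by
    intro c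
    refine ⟨1, Subtype.ext ?_⟩
    rw [pow_one]
    exact key c fun s hs => Subgroup.mem_centralizer_iff.1 c.2 s (Subgroup.subset_closure hs)
  have h2 : IsPGroup 2 (Subgroup.closure S) := by
    refine h1.to_le ?_
    rw [Subgroup.closure_le]
    intro a ha
    rw [SetLike.mem_coe, Subgroup.centralizer_closure, Subgroup.mem_centralizer_iff]
    exact fun b hb => hc b hb a ha
  obtain ⟨Q, hQ⟩ := h2.exists_le_sylow
  exact NB.of_sylow Q (h1.to_le (Subgroup.centralizer_le hQ))

theorem cent_zpowers {G : Type*} [Group G] (x : G) :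
    Subgroup.centralizer ((Subgroup.zpowers x : Subgroup G) : Set G) = Subgroup.centralizer ({x} : Set G) := by
  rw [Subgroup.zpowers_eq_closure, Subgroup.centralizer_closure]

theorem prime_cases {p : ℕ} (hp : p.Prime) (hd : p ∣ Nat.card H) :
    p = 2 ∨ p = 3 ∨ p = 5 ∨ p = 11 := by
  rw [card_H, show 95040 = 2 ^ 6 * (3 ^ 3 * (5 * 11)) by norm_num, hp.dvd_mul, hp.dvd_mul, hp.dvd_mul] at hd
  rcases hd with h | h | h | h
  · exact Or.inl ((Nat.prime_dvd_prime_iff_eq hp (by norm_num)).1 (hp.dvd_of_dvd_pow h))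
  · exact Or.inr (Or.inl ((Nat.prime_dvd_prime_iff_eq hp (by norm_num)).1 (hp.dvd_of_dvd_pow h)))
  · exact Or.inr (Or.inr (Or.inl ((Nat.prime_dvd_prime_iff_eq hp (by norm_num)).1 h)))
  · exact Or.inr (Or.inr (Or.inr ((Nat.prime_dvd_prime_iff_eq hp (by norm_num)).1 h)))

theorem nb3 : NB 3 1 H := by
  have : Fact (Nat.Prime 3) := ⟨Nat.prime_three⟩
  have := fin_H
  refine NB.of_orders (a := 3) (by rw [card_H]; norm_num) fun x hx hx3 => ?_
  rcases prime_cases hx (orderOf_dvd_natCard x) with h | h | h | h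
  · rcases card_cent_inv h with h1 | h1 <;> rw [h1] <;> norm_num
  · exact absurd h hx3
  · have h1 := (H715.Fpr.MathData.cn12_5 (R := Subgroup.zpowers x) (by rw [Nat.card_zpowers]; exact h)).1
    rw [cent_zpowers] at h1
    rw [h1]
    norm_num
  · have h1 := (H715.Fpr.MathData.cn12_11 (R := Subgroup.zpowers x) (by rw [Nat.card_zpowers]; exact h)).1
    rw [cent_zpowers] at h1
    rw [h1]
    norm_num

theorem row_H : Row H := by
  have := fin_H
  obtain ⟨χ, h55⟩ := (H651.Two.Mathieu.deg_m12).2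
  have cG := card_H
  have h5 : 5 ^ 1 ∣ Nat.card H := by rw [cG]; norm_num
  have h5' : ¬ 5 ^ (1 + 1) ∣ Nat.card H := by rw [cG]; norm_num
  have h11 : 11 ^ 1 ∣ Nat.card H := by rw [cG]; norm_num
  have h11' : ¬ 11 ^ (1 + 1) ∣ Nat.card H := by rw [cG]; norm_num
  have k23 : ¬ Same 2 3 H := fun h => pm_sub (PQ.of_same Nat.prime_three h)
  have k25 : ¬ Same 2 5 H :=
    kill (by norm_num) (by norm_num) nb2 h55 (by norm_num) (by norm_num) (by norm_num) h5 h5'
  have k211 : ¬ Same 2 11 H :=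
    kill (by norm_num) (by norm_num) nb2 h55 (by norm_num) (by norm_num) (by norm_num) h11 h11'
  have k35 : ¬ Same 3 5 H :=
    kill (by norm_num) (by norm_num) nb3 h55 (by norm_num) (by norm_num) (by norm_num) h5 h5'
  have k311 : ¬ Same 3 11 H :=
    kill (by norm_num) (by norm_num) nb3 h55 (by norm_num) (by norm_num) (by norm_num) h11 h11'
  have k511 : ¬ Same 5 11 H := kill_count (by norm_num) (by norm_num) (by norm_num) (by norm_num)
    (by rw [cG]; norm_num) (by rw [cG]; norm_num) (by rw [cG]; norm_num) (by rw [cG]; norm_num) (by decide +kernel)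
  apply Row.of_lt
  intro p q hp hq hpq hpG hqG
  rcases prime_cases hp hpG with rfl | rfl | rfl | rfl <;> rcases prime_cases hq hqG with rfl | rfl | rfl | rfl <;>
    first
      | omega
      | assumption

/-- **`M₁₂`** -/
theorem row_m12 {S : Type u} [Group S] (h : Cfsg.Spor.IsoM12 S) : Row S := by
  obtain ⟨e⟩ := h
  exact H766.PQ.Row.of_equiv e.symm row_H

end Cfsg.Agent.H642.PQ.MTwelve
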