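import Cfsg.Agent.H642.PQ.MEleven
import Cfsg.Agent.H642.PQ.MTwelve
import Cfsg.Agent.H968.PQ.Mathieu
import Cfsg.Agent.H513.PQ.J1
import Cfsg.Agent.H513.PQ.J2
import Cfsg.Agent.H513.PQ.J3
import Cfsg.Agent.H894.PQ.J4
import Cfsg.Agent.H488.PQ.Co1
import Cfsg.Agent.H488.PQ.Co2
import Cfsg.Agent.H635.PQ.Co3
import Cfsg.Agent.H513.PQ.McL
import Cfsg.Agent.H513.PQ.HS
import Cfsg.Agent.H635.PQ.Suz
import Cfsg.Agent.H806.PQ.He
import Cfsg.Agent.H806.PQ.Ru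
import Cfsg.Agent.H968.PQ.ON
import Cfsg.Agent.H894.PQ.Ly
import Cfsg.Agent.H301.PQ.FiTwentyTwo
import Cfsg.Agent.H301.PQ.FiTwentyThreeB
import Cfsg.Agent.H513.PQ.FiTFRow
import Cfsg.Agent.H513.PQ.HNRow
import Cfsg.Agent.H894.PQ.Th
import Cfsg.Agent.H426.PQ.B
import Cfsg.Agent.H968.PQ.MRow
import Cfsg.Agent.H940.MCEnd

/-!
# S4612: the rows of the sporadic groups, collected (helper642)
-/

set_option autoImplicit false

open Cfsg

namespace Cfsg.Agent.H642.PQ.Spor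

open Cfsg.Agent.H317.PQ

universe u

/-- The sporadic groups, `Fi₂₃` given. -/
theorem spor_row_of {S : Type u} [Group S] (h23 : Cfsg.Spor.IsoFi23 S → Row S) (h : Cfsg.IsSporadicGroup S) :
    Row S := by
  unfold Cfsg.IsSporadicGroup at h
  rcases h with h | h | h | h | h | h | h | h | h | h | h | h | h | h | h | h | h | h | h | h | h | h | h | h | h | h
  · exact Cfsg.Agent.H642.PQ.MEleven.row_m11 h
  · exact Cfsg.Agent.H642.PQ.MTwelve.row_m12 h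
  · exact Cfsg.Agent.H968.PQ.Mathieu.row_m22 h
  · exact Cfsg.Agent.H968.PQ.Mathieu.row_m23 h
  · exact Cfsg.Agent.H968.PQ.Mathieu.row_m24 h
  · exact Cfsg.Agent.H513.PQ.J1.row_j1 h
  · exact Cfsg.Agent.H513.PQ.J2.row_j2 h
  · exact Cfsg.Agent.H513.PQ.J3.row_j3 h
  · exact Cfsg.Agent.H894.PQ.J4.row_j4 h
  · exact Cfsg.Agent.H488.PQ.Co1.row_co1 h
  · exact Cfsg.Agent.H488.PQ.Co2.row_co2 h
  · exact Cfsg.Agent.H635.PQ.row_co3 h
  · exact Cfsg.Agent.H513.PQ.McL.row_mcl h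
  · exact Cfsg.Agent.H513.PQ.HS.row_hs h
  · exact Cfsg.Agent.H635.PQ.row_suz h
  · exact Cfsg.Agent.H806.PQ.He.row_he h
  · exact Cfsg.Agent.H806.PQ.Ru.row_ru h
  · exact Cfsg.Agent.H968.PQ.ON.row_on h
  · exact Cfsg.Agent.H894.PQ.Ly.row_ly h
  · exact Cfsg.Agent.H301.PQ.FiTwentyTwo.row_fi22 h
  · exact h23 h
  · exact Cfsg.Agent.H513.PQ.FiTF.row_fi24 h
  · exact Cfsg.Agent.H513.PQ.HNRow.row_hn h
  · exact Cfsg.Agent.H894.PQ.Th.row_th h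
  · exact Cfsg.Agent.H426.PQ.B.row_b h
  · exact Cfsg.Agent.H968.PQ.M.row_m Cfsg.Agent.H940.MaxCls.base h

/-- **The sporadic groups.** -/
theorem spor_row {S : Type u} [Group S] (h : Cfsg.IsSporadicGroup S) : Row S :=
  spor_row_of Cfsg.Agent.H301.PQ.FiTwentyThree.row_fi23 h

end Cfsg.Agent.H642.PQ.Spor
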